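import Cfsg.Agent.SzFacts.Sylow

/-!
# The partition of the Suzuki group
-/

set_option autoImplicit false

namespace Cfsg.Agent.SzFacts

open Cfsg.Agent.Suzuki

variable {F : Type*} [Field F] [Fintype F] {m : ℕ}
variable (hF : Fintype.card F = 2 ^ (2 * m + 1))
include hF

/-- A subgroup of the partition. -/
def IsPart (V : Subgroup (Cfsg.Sz F m)) : Prop :=
  (∃ P : Sylow 2 (Cfsg.Sz F m), V = (P : Subgroup (Cfsg.Sz F m))) ∨
    (IsCyclic ↥V ∧ Nat.card ↥V ∈ ({2 ^ (2 * m + 1) - 1, 2 ^ (2 * m + 1) + 2 ^ (m + 1) + 1,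
      2 ^ (2 * m + 1) - 2 ^ (m + 1) + 1} : Set ℕ))

theorem tori_product :
    (2 ^ (2 * m + 1) + 2 ^ (m + 1) + 1) * (2 ^ (2 * m + 1) - 2 ^ (m + 1) + 1) =
      Fintype.card F ^ 2 + 1 := by
  have hle : 2 ^ (m + 1) ≤ 2 ^ (2 * m + 1) := Nat.pow_le_pow_right (by norm_num) (by omega)
  have hsq : (2 ^ (m + 1)) ^ 2 = 2 * 2 ^ (2 * m + 1) := by
    rw [← pow_mul, ← pow_succ']
    congr 1
    ring
  rw [hF]
  generalize 2 ^ (2 * m + 1) = q at hle hsq ⊢
  generalize 2 ^ (m + 1) = s at hle hsq ⊢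
  zify [hle] at hsq ⊢
  linear_combination -hsq

theorem coprime_facts (hm : 1 ≤ m) :
    Nat.Coprime (Fintype.card F - 1) (Fintype.card F ^ 2 + 1) ∧
      Odd (Fintype.card F - 1) ∧ Odd (Fintype.card F ^ 2 + 1) ∧
      Nat.Coprime (2 ^ (2 * m + 1) + 2 ^ (m + 1) + 1) (2 ^ (2 * m + 1) - 2 ^ (m + 1) + 1) := by
  obtain ⟨h8, heven⟩ := q_facts hF hm
  obtain ⟨r, hr⟩ := heven
  have hodd : Odd (Fintype.card F ^ 2 + 1) := by
    rw [hr]; exact ⟨2 * r * r, by ring⟩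
  refine ⟨Nat.coprime_of_dvd fun p hp h1 h2 =>
    coprime_q_facts hF hm hp h2 (dvd_mul_of_dvd_right h1 _), ⟨r - 1, by omega⟩, hodd, ?_⟩
  have hle : 2 ^ (m + 1) ≤ 2 ^ (2 * m + 1) := Nat.pow_le_pow_right (by norm_num) (by omega)
  have hprod := tori_product hF
  refine Nat.coprime_of_dvd fun p hp h1 h2 => ?_
  have hp2 : p ≠ 2 := by
    rintro rfl
    have h3 : 2 ∣ Fintype.card F ^ 2 + 1 := hprod ▸ h1.mul_right _
    exact (Nat.not_even_iff_odd.2 hodd) (even_iff_two_dvd.2 h3)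
  have h4 := Nat.dvd_sub h1 h2
  rw [show 2 ^ (2 * m + 1) + 2 ^ (m + 1) + 1 - (2 ^ (2 * m + 1) - 2 ^ (m + 1) + 1) =
    2 * 2 ^ (m + 1) by omega, ← pow_succ'] at h4
  exact hp2 ((Nat.prime_dvd_prime_iff_eq hp Nat.prime_two).1 (hp.dvd_of_dvd_pow h4))

/-- Centralisers of fixed point free elements have one of two orders. -/
theorem card_torus (hm : 1 ≤ m) {g : Cfsg.Sz F m} (hg : Fpf g) :
    Nat.card (Subgroup.centralizer {g}) = 2 ^ (2 * m + 1) + 2 ^ (m + 1) + 1 ∨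
      Nat.card (Subgroup.centralizer {g}) = 2 ^ (2 * m + 1) - 2 ^ (m + 1) + 1 := by
  obtain ⟨g₁, g₂, h1, h2, hc1, hc2, -, -⟩ := torus_orders hF hm
  rw [hF] at hc1 hc2
  have hgm : g ∈ Subgroup.centralizer {g} := Subgroup.mem_centralizer_singleton_iff.2 rfl
  haveI : Nontrivial (Subgroup.centralizer {g}) :=
    ⟨⟨⟨g, hgm⟩, 1, fun h => fpf_ne_one hg (congrArg Subtype.val h)⟩⟩
  obtain ⟨p, hp, hpd⟩ := Nat.exists_prime_and_dvd
    (Finite.one_lt_card (α := Subgroup.centralizer {g})).ne'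
  have key : ∀ g' : Cfsg.Sz F m, Fpf g' → p ∣ Nat.card (Subgroup.centralizer {g'}) →
      Nat.card (Subgroup.centralizer {g}) = Nat.card (Subgroup.centralizer {g'}) := by
    intro g' hg' hp'
    obtain ⟨h, hh⟩ := torus_conj hF hm hg' hg hp hp' hpd
    rw [hh]
    exact (Nat.card_congr (Subgroup.equivMapOfInjective _ _ (MulAut.conj h).injective).toEquiv).symm
  have h' := hpd.trans (card_torus_dvd hF hm hg)
  rw [← tori_product hF] at h'
  rcases hp.dvd_mul.1 h' with h | h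
  · exact Or.inl ((key g₁ h1 (hc1 ▸ h)).trans hc1)
  · exact Or.inr ((key g₂ h2 (hc2 ▸ h)).trans hc2)

omit [Fintype F] hF in
theorem le_centralizer_of_isCyclic {G : Type*} [Group G] {V : Subgroup G} (hV : IsCyclic ↥V)
    {g : G} (hg : g ∈ V) : V ≤ Subgroup.centralizer {g} := by
  intro x hx
  rw [Subgroup.mem_centralizer_singleton_iff]
  obtain ⟨z, hz⟩ := IsCyclic.exists_generator (α := V)
  obtain ⟨i, hi⟩ := Subgroup.mem_zpowers_iff.1 (hz ⟨x, hx⟩)
  obtain ⟨j, hj⟩ := Subgroup.mem_zpowers_iff.1 (hz ⟨g, hg⟩)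
  have e := (Commute.zpow_zpow_self z i j).eq
  rw [hi, hj] at e
  exact congrArg Subtype.val e

theorem centralizer_T_eq (hm : 1 ≤ m) {k : Fˣ} (hk : k ≠ 1) :
    Subgroup.centralizer {T hF k} = (THom hF).range := by
  refine le_antisymm (centralizer_T_le hF hm hk) ?_
  rintro _ ⟨l, rfl⟩
  rw [Subgroup.mem_centralizer_singleton_iff]
  change T hF l * T hF k = T hF k * T hF l
  rw [← T_mul, ← T_mul, mul_comm]

theorem odd_card_part (hm : 1 ≤ m) {V : Subgroup (Cfsg.Sz F m)}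
    (hV : Nat.card ↥V ∈ ({2 ^ (2 * m + 1) - 1, 2 ^ (2 * m + 1) + 2 ^ (m + 1) + 1,
      2 ^ (2 * m + 1) - 2 ^ (m + 1) + 1} : Set ℕ)) :
    Nat.card ↥V ∣ Fintype.card F - 1 ∨ Nat.card ↥V ∣ Fintype.card F ^ 2 + 1 := by
  rcases hV with h | h | h
  · exact Or.inl (by rw [h, hF])
  · exact Or.inr (by rw [h, ← tori_product hF]; exact Dvd.intro _ rfl)
  · exact Or.inr (by rw [h, ← tori_product hF]; exact Dvd.intro_left _ rfl)

theorem existsUnique_part (hm : 1 ≤ m) (g : Cfsg.Sz F m) (hg : g ≠ 1) :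
    ∃! V : Subgroup (Cfsg.Sz F m), IsPart V ∧ g ∈ V := by
  haveI : Fact (Nat.Prime 2) := ⟨Nat.prime_two⟩
  obtain ⟨hcop, hodd1, hodd2, hcop'⟩ := coprime_facts hF hm
  have hne1 : orderOf g ≠ 1 := fun h => hg (orderOf_eq_one_iff.1 h)
  have hsyl : ∀ P : Sylow 2 (Cfsg.Sz F m), g ∈ (P : Subgroup (Cfsg.Sz F m)) →
      ∀ d : ℕ, orderOf g ∣ d → ¬ Odd d := by
    intro P hgP d hd hdo
    obtain ⟨k, hk⟩ := IsPGroup.iff_orderOf.1 P.2 ⟨g, hgP⟩
    rw [← Subgroup.orderOf_coe] at hk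
    change orderOf g = 2 ^ k at hk
    have h0 : k ≠ 0 := fun h => hne1 (by rw [hk, h, pow_zero])
    exact (Nat.not_even_iff_odd.2 hdo)
      (even_iff_two_dvd.2 ((dvd_pow_self 2 h0).trans (hk ▸ hd)))
  rcases classify hF hm hg with hf | ⟨a, b, h, hu, rfl⟩ | ⟨k, h, hk, rfl⟩
  · have hgm : g ∈ Subgroup.centralizer {g} := Subgroup.mem_centralizer_singleton_iff.2 rfl
    have hcyc := (torus hF hm hf).1
    have hdvd : orderOf g ∣ Nat.card (Subgroup.centralizer {g}) := by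
      have := orderOf_dvd_natCard (⟨g, hgm⟩ : Subgroup.centralizer {g})
      rwa [← Subgroup.orderOf_coe] at this
    have hdvd' := hdvd.trans (card_torus_dvd hF hm hf)
    refine ⟨Subgroup.centralizer {g}, ⟨Or.inr ⟨hcyc, ?_⟩, hgm⟩, ?_⟩
    · rcases card_torus hF hm hf with h | h <;> rw [h] <;> simp
    rintro V ⟨⟨P, rfl⟩ | ⟨hVc, hVn⟩, hgV⟩
    · exact absurd hodd2 (hsyl P hgV _ hdvd')
    refine Subgroup.eq_of_le_of_card_ge (le_centralizer_of_isCyclic hVc hgV) ?_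
    have hgdvd : orderOf g ∣ Nat.card ↥V := by
      have := orderOf_dvd_natCard (⟨g, hgV⟩ : V)
      rwa [← Subgroup.orderOf_coe] at this
    rcases hVn with h | h | h
    · exact absurd (Nat.eq_one_of_dvd_coprimes hcop (by rwa [h, ← hF] at hgdvd) hdvd') hne1
    · rcases card_torus hF hm hf with h' | h'
      · exact (h'.trans h.symm).le
      · exact absurd (Nat.eq_one_of_dvd_coprimes hcop' (h ▸ hgdvd) (h' ▸ hdvd)) hne1
    · rcases card_torus hF hm hf with h' | h'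
      · exact absurd (Nat.eq_one_of_dvd_coprimes hcop' (h' ▸ hdvd) (h ▸ hgdvd)) hne1
      · exact (h'.trans h.symm).le
  · let S := (isPGroup_USub hF).toSylow (index_USub_odd hF hm)
    let P : Sylow 2 (Cfsg.Sz F m) := h • S
    have hP : (P : Subgroup (Cfsg.Sz F m)) = (USub hF).map (MulAut.conj h).toMonoidHom := by
      change ((h • S : Sylow 2 (Cfsg.Sz F m)) : Subgroup (Cfsg.Sz F m)) = _
      rw [Sylow.coe_subgroup_smul, IsPGroup.toSylow_coe, Subgroup.pointwise_smul_def]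
      rfl
    have hgP : h * U hF a b * h⁻¹ ∈ (P : Subgroup (Cfsg.Sz F m)) := by
      rw [hP, mem_map_conj_USub hF]; exact ⟨a, b, rfl⟩
    refine ⟨(P : Subgroup (Cfsg.Sz F m)), ⟨Or.inl ⟨P, rfl⟩, hgP⟩, ?_⟩
    rintro V ⟨⟨Q, rfl⟩ | ⟨hVc, hVn⟩, hgV⟩
    · obtain ⟨x, hQ⟩ := sylow_eq_map hF hm Q
      rw [hQ, mem_map_conj_USub hF] at hgV
      obtain ⟨c, d, hcd⟩ := hgV
      have hn : x⁻¹ * h ∈ Subgroup.normalizer (USub hF : Set (Cfsg.Sz F m)) := by
        refine TI_U hF hm _ _ ⟨a, b, rfl⟩ hu ⟨c, d, ?_⟩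
        rw [show x⁻¹ * h * U hF a b * (x⁻¹ * h)⁻¹ = x⁻¹ * (h * U hF a b * h⁻¹) * x by group, hcd]
        group
      rw [hQ, hP]
      ext y
      rw [mem_map_conj_USub hF, mem_map_conj_USub hF]
      constructor
      · rintro ⟨c', d', rfl⟩
        obtain ⟨e, f, hef⟩ := (Subgroup.mem_normalizer_iff.1 (inv_mem hn) _).1 ⟨c', d', rfl⟩
        exact ⟨e, f, by rw [← hef]; group⟩
      · rintro ⟨c', d', rfl⟩
        obtain ⟨e, f, hef⟩ := (Subgroup.mem_normalizer_iff.1 hn _).1 ⟨c', d', rfl⟩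
        exact ⟨e, f, by rw [← hef]; group⟩
    · exfalso
      have hgdvd : orderOf (h * U hF a b * h⁻¹) ∣ Nat.card ↥V := by
        have := orderOf_dvd_natCard (⟨_, hgV⟩ : V)
        rwa [← Subgroup.orderOf_coe] at this
      rcases odd_card_part hF hm hVn with h' | h'
      · exact hsyl P hgP _ (hgdvd.trans h') hodd1
      · exact hsyl P hgP _ (hgdvd.trans h') hodd2
  · haveI hcycT : IsCyclic (THom hF).range := isCyclic_of_surjective (THom hF).rangeRestrict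
      (THom hF).rangeRestrict_surjective
    set C := Subgroup.centralizer {h * T hF k * h⁻¹} with hC
    have hCmap : C = (THom hF).range.map (MulAut.conj h).toMonoidHom := by
      rw [hC, centralizer_conj, centralizer_T_eq hF hm hk]
    have hgm : h * T hF k * h⁻¹ ∈ C := Subgroup.mem_centralizer_singleton_iff.2 rfl
    have hCcard : Nat.card ↥C = Fintype.card F - 1 := by
      rw [hCmap, ← card_range_T hF]
      exact (Nat.card_congr
        (Subgroup.equivMapOfInjective _ _ (MulAut.conj h).injective).toEquiv).symm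
    have hCcyc : IsCyclic ↥C := by
      rw [hCmap]
      exact isCyclic_of_surjective _ (MonoidHom.subgroupMap_surjective _ _)
    have hdvd : orderOf (h * T hF k * h⁻¹) ∣ Fintype.card F - 1 := by
      have := orderOf_dvd_natCard (⟨_, hgm⟩ : C)
      rwa [← Subgroup.orderOf_coe, hCcard] at this
    refine ⟨C, ⟨Or.inr ⟨hCcyc, by rw [hCcard, hF]; simp⟩, hgm⟩, ?_⟩
    rintro V ⟨⟨Q, rfl⟩ | ⟨hVc, hVn⟩, hgV⟩
    · exact absurd hodd1 (hsyl Q hgV _ hdvd)
    refine Subgroup.eq_of_le_of_card_ge (le_centralizer_of_isCyclic hVc hgV) ?_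
    have hgdvd : orderOf (h * T hF k * h⁻¹) ∣ Nat.card ↥V := by
      have := orderOf_dvd_natCard (⟨_, hgV⟩ : V)
      rwa [← Subgroup.orderOf_coe] at this
    rcases hVn with h' | h' | h'
    · rw [hCcard, h', hF]
    · exact absurd (Nat.eq_one_of_dvd_coprimes hcop hdvd (hgdvd.trans (by
        rw [h', ← tori_product hF]; exact Dvd.intro _ rfl))) hne1
    · exact absurd (Nat.eq_one_of_dvd_coprimes hcop hdvd (hgdvd.trans (by
        rw [h', ← tori_product hF]; exact Dvd.intro_left _ rfl))) hne1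

end Cfsg.Agent.SzFacts
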