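import Cfsg.Agent.SzFacts.Sylow
import Cfsg.Prelude.Def_Transfer

/-!
# Elementary abelian TI subgroups of the Suzuki group
-/

set_option autoImplicit false

namespace Cfsg.Agent.SzFacts

open Cfsg.Agent.Suzuki

variable {F : Type*} [Field F] [Fintype F] {m : ℕ}
variable (hF : Fintype.card F = 2 ^ (2 * m + 1))
include hF

theorem mul_sig_surjective : Function.Surjective fun x : F => x * sig m x := by
  refine Finite.injective_iff_surjective.1 fun x y h => ?_
  change x * sig m x = y * sig m y at h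
  by_cases hy : y = 0
  · subst hy
    rw [zero_mul] at h
    rcases mul_eq_zero.1 h with h' | h'
    · exact h'
    · exact sig_eq_zero.1 h'
  by_cases hx : x = 0
  · subst hx
    rw [zero_mul] at h
    exact absurd h.symm (mul_ne_zero hy (sig_ne_zero hy))
  have h' : (x * y⁻¹) * sig m (x * y⁻¹) = 1 := by
    rw [sig_mul, sig_inv]
    calc x * y⁻¹ * (sig m x * (sig m y)⁻¹) = (x * sig m x) * (y * sig m y)⁻¹ := by
          rw [mul_inv]; ring
      _ = 1 := by rw [h]; exact mul_inv_cancel₀ (mul_ne_zero hy (sig_ne_zero hy))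
  have h2 := eq_one_of_mul_sig hF (mul_ne_zero hx (inv_ne_zero hy)) h'
  rwa [← div_eq_mul_inv, div_eq_one_iff_eq hy] at h2

/-- An element of `USub` of exponent two has the shape `U 0 b`. -/
theorem eq_U_zero_of_sq {g : Cfsg.Sz F m} (hg : g ∈ USub hF) (h2 : g ^ 2 = 1) :
    ∃ b, g = U hF 0 b := by
  obtain ⟨a, b, rfl⟩ := hg
  rw [pow_two, U_mul, add_self hF, add_self hF, zero_add, ← U_zero hF] at h2
  rcases mul_eq_zero.1 (U_inj hF h2).2 with h | h
  · exact ⟨b, by rw [sig_eq_zero.1 h]⟩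
  · exact ⟨b, by rw [h]⟩

/-- The order of an elementary abelian TI subgroup inside `USub`. -/
theorem dvd_of_ti (E : Subgroup (Cfsg.Sz F m)) (hEU : E ≤ USub hF) (h2 : ∀ g ∈ E, g ^ 2 = 1)
    {n : ℕ} (hn : 1 ≤ n) (hcard : Nat.card ↥E = 2 ^ n)
    (hTI : ∀ x u, u ∈ E → u ≠ 1 → x * u * x⁻¹ ∈ E →
      x ∈ Subgroup.normalizer (E : Set (Cfsg.Sz F m))) :
    n ∣ 2 * m + 1 := by
  classical
  have hshape : ∀ g : E, ∃ b, (g : Cfsg.Sz F m) = U hF 0 b := fun g =>
    eq_U_zero_of_sq hF (hEU g.2) (h2 _ g.2)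
  choose β hβ using hshape
  obtain ⟨g₀, hg₀⟩ : ∃ g : E, g ≠ 1 := by
    haveI : Nontrivial E := Finite.one_lt_card_iff_nontrivial.1 (by
      rw [hcard]; exact Nat.one_lt_two_pow (by omega))
    exact exists_ne 1
  have hβ0 : ∀ g : E, g ≠ 1 → β g ≠ 0 := fun g hg h => hg (Subtype.ext (by
    rw [hβ g, h, U_zero]; rfl))
  set b₀ := β g₀ with hb₀
  -- the scalars preserving the subgroup
  let K : Subgroup Fˣ :=
    { carrier := {l | ∀ b : F, U hF 0 b ∈ E ↔ U hF 0 (l * b) ∈ E}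
      one_mem' := fun b => by simp
      mul_mem' := fun {l l'} hl hl' b => by
        rw [hl' b, hl ((l' : F) * b), Units.val_mul, mul_assoc]
      inv_mem' := fun {l} hl b => by
        rw [hl ((l⁻¹ : Fˣ) * b)]
        simp }
  -- the map from nontrivial elements
  have hscal : ∀ g : E, g ≠ 1 → ∃ l : Fˣ, l ∈ K ∧ (l : F) * b₀ = β g := by
    intro g hg
    obtain ⟨k₀, hk₀⟩ := mul_sig_surjective hF (β g * b₀⁻¹)
    change k₀ * sig m k₀ = β g * b₀⁻¹ at hk₀
    have hne : β g * b₀⁻¹ ≠ 0 := mul_ne_zero (hβ0 g hg) (inv_ne_zero (hβ0 g₀ hg₀))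
    have hk0 : k₀ ≠ 0 := by
      rintro rfl
      exact hne (by rw [← hk₀, zero_mul])
    refine ⟨Units.mk0 _ hne, ?_, ?_⟩
    swap
    · change β g * b₀⁻¹ * b₀ = β g
      rw [mul_assoc, inv_mul_cancel₀ (hβ0 g₀ hg₀), mul_one]
    set k : Fˣ := Units.mk0 k₀ hk0
    have hconj : ∀ b : F, T hF k * U hF 0 b * (T hF k)⁻¹ = U hF 0 (β g * b₀⁻¹ * b) := fun b => by
      rw [T_conj_U, mul_zero, ← hk₀]
      rfl
    have hk : T hF k ∈ Subgroup.normalizer (E : Set (Cfsg.Sz F m)) := by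
      refine hTI _ _ g₀.2 (fun h => hg₀ (Subtype.ext h)) ?_
      rw [hβ g₀, hconj, mul_assoc, inv_mul_cancel₀ (hβ0 g₀ hg₀), mul_one, ← hβ g]
      exact g.2
    intro b
    rw [Subgroup.mem_normalizer_iff.1 hk (U hF 0 b), hconj b]
    rfl
  have hback : ∀ l : Fˣ, l ∈ K → ∃ g : E, g ≠ 1 ∧ (g : Cfsg.Sz F m) = U hF 0 (l * b₀) := by
    intro l hl
    have hmem := (hl b₀).1 (by rw [← hβ g₀]; exact g₀.2)
    refine ⟨⟨_, hmem⟩, fun h => ?_, rfl⟩
    have h' : U hF 0 ((l : F) * b₀) = 1 := congrArg Subtype.val h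
    rw [← U_zero hF] at h'
    exact mul_ne_zero l.ne_zero (hβ0 g₀ hg₀) (U_inj hF h').2
  have hK : Nat.card K = 2 ^ n - 1 := by
    let φ : K → {g : E // g ≠ 1} := fun l =>
      ⟨(hback l.1 l.2).choose, (hback l.1 l.2).choose_spec.1⟩
    have hφ : ∀ l : K, ((φ l).1 : Cfsg.Sz F m) = U hF 0 ((l.1 : F) * b₀) := fun l =>
      (hback l.1 l.2).choose_spec.2
    have hb : Function.Bijective φ := by
      constructor
      · intro l l' h
        have h' := (hφ l).symm.trans ((congrArg (fun z : {g : E // g ≠ 1} =>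
          (z.1 : Cfsg.Sz F m)) h).trans (hφ l'))
        exact Subtype.ext (Units.ext (mul_right_cancel₀ (hβ0 g₀ hg₀) (U_inj hF h').2))
      · rintro ⟨g, hg⟩
        obtain ⟨l, hl, he⟩ := hscal g hg
        refine ⟨⟨l, hl⟩, Subtype.ext (Subtype.ext ?_)⟩
        rw [hφ, hβ g]
        exact congrArg _ he
    rw [Nat.card_eq_of_bijective φ hb]
    haveI := Fintype.ofFinite E
    rw [Nat.card_eq_fintype_card, Fintype.card_subtype_compl, Fintype.card_subtype_eq,
      ← Nat.card_eq_fintype_card, hcard]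
  have hd : 2 ^ n - 1 ∣ 2 ^ (2 * m + 1) - 1 := by
    rw [← hK]
    have h := Subgroup.card_subgroup_dvd_card K
    rwa [Nat.card_units, Nat.card_eq_fintype_card (α := F), hF] at h
  have h1 := Nat.gcd_eq_left hd
  rw [Nat.pow_sub_one_gcd_pow_sub_one] at h1
  have h2' : 2 ^ Nat.gcd n (2 * m + 1) = 2 ^ n := by
    have := Nat.one_le_two_pow (n := Nat.gcd n (2 * m + 1))
    have := Nat.one_le_two_pow (n := n)
    omega
  exact Nat.gcd_eq_left_iff_dvd.1 (Nat.pow_right_injective le_rfl h2')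

/-- The subfield of order `2 ^ n` gives a TI subgroup. -/
theorem exists_ti (hm : 1 ≤ m) {n : ℕ} (hn : 1 ≤ n) (hdvd : n ∣ 2 * m + 1) :
    ∃ E : Subgroup (Cfsg.Sz F m), Cfsg.IsElementaryAbelian 2 E ∧ Nat.card ↥E = 2 ^ n ∧
      ∀ x u, u ∈ E → u ≠ 1 → x * u * x⁻¹ ∈ E →
        x ∈ Subgroup.normalizer (E : Set (Cfsg.Sz F m)) := by
  classical
  haveI := charP_two hF
  haveI : Fact (Nat.Prime 2) := ⟨Nat.prime_two⟩
  let E : Subgroup (Cfsg.Sz F m) :=
    { carrier := {g | ∃ b : F, b ^ 2 ^ n = b ∧ g = U hF 0 b}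
      one_mem' := ⟨0, zero_pow (by positivity), (U_zero hF).symm⟩
      mul_mem' := by
        rintro _ _ ⟨b, hb, rfl⟩ ⟨d, hd, rfl⟩
        refine ⟨b + d, ?_, ?_⟩
        · rw [add_pow_char_pow (p := 2), hb, hd]
        · rw [U_mul, sig_zero, zero_mul, add_zero, add_zero]
      inv_mem' := by
        rintro _ ⟨b, hb, rfl⟩
        exact ⟨b, hb, by rw [U_inv, mul_zero, add_zero]⟩ }
  have hroots : Nat.card (powMonoidHom (2 ^ n - 1) : Fˣ →* Fˣ).ker = 2 ^ n - 1 := by
    rw [IsCyclic.card_powMonoidHom_ker, Nat.card_units, Nat.card_eq_fintype_card, hF,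
      Nat.gcd_comm, Nat.pow_sub_one_gcd_pow_sub_one, Nat.gcd_eq_left hdvd]
  have hp1 : 1 ≤ 2 ^ n := Nat.one_le_two_pow
  have hcardS : Nat.card {b : F // b ^ 2 ^ n = b} = 2 ^ n := by
    let e : Option (powMonoidHom (2 ^ n - 1) : Fˣ →* Fˣ).ker ≃ {b : F // b ^ 2 ^ n = b} :=
      { toFun := fun o => o.elim ⟨0, zero_pow (by positivity)⟩ fun l => ⟨((l.1 : Fˣ) : F), by
          have h : ((l.1 : Fˣ) : F) ^ (2 ^ n - 1) = 1 := by
            rw [← Units.val_pow_eq_pow_val, show (l.1 : Fˣ) ^ (2 ^ n - 1) = 1 from l.2, Units.val_one]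
          have h' := pow_succ ((l.1 : Fˣ) : F) (2 ^ n - 1)
          rwa [Nat.sub_add_cancel hp1, h, one_mul] at h'⟩
        invFun := fun b => if hb : (b : F) = 0 then none else some ⟨Units.mk0 b hb, Units.ext (by
          change (b : F) ^ (2 ^ n - 1) = 1
          have h' := pow_succ (b : F) (2 ^ n - 1)
          rw [Nat.sub_add_cancel hp1, b.2] at h'
          exact mul_eq_right₀ hb |>.1 h'.symm)⟩
        left_inv := fun o => by
          rcases o with _ | l
          · simp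
          · refine (dif_neg (Units.ne_zero (l : Fˣ))).trans ?_
            exact congrArg some (Subtype.ext (Units.ext rfl))
        right_inv := fun b => by
          by_cases hb : (b : F) = 0
          · simp only [dif_pos hb, Option.elim_none]
            exact Subtype.ext hb.symm
          · simp only [dif_neg hb, Option.elim_some]
            rfl }
    rw [← Nat.card_congr e, Finite.card_option, hroots]
    omega
  have hcard : Nat.card ↥E = 2 ^ n := by
    rw [← hcardS]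
    refine (Nat.card_eq_of_bijective
      (fun b => (⟨U hF 0 b.1, b.1, b.2, rfl⟩ : E)) ⟨fun b d h => ?_, fun g => ?_⟩).symm
    · exact Subtype.ext (U_inj hF (congrArg Subtype.val h)).2
    · obtain ⟨b, hb, he⟩ := g.2
      exact ⟨⟨b, hb⟩, Subtype.ext he.symm⟩
  refine ⟨E, ⟨IsMulCommutative.mk ⟨fun g g' => ?_⟩, ?_⟩, hcard, ?_⟩
  · obtain ⟨b, -, hb⟩ := g.2
    obtain ⟨d, -, hd⟩ := g'.2
    refine Subtype.ext ?_
    change (g : Cfsg.Sz F m) * g' = g' * g
    rw [hb, hd, U_mul, U_mul, sig_zero, add_comm b d]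
  · rintro _ ⟨b, -, rfl⟩
    rw [pow_two, U_mul, sig_zero, zero_mul, add_zero, add_zero, add_self hF, U_zero]
  rintro x _ ⟨b, hb, rfl⟩ hu1 ⟨b', hb', he⟩
  have hxN := TI_U hF hm x _ ⟨0, b, rfl⟩ hu1 (by rw [he]; exact ⟨0, b', rfl⟩)
  rw [normalizer_USub hF hm] at hxN
  obtain ⟨c, d, k, rfl⟩ := eq_U_T_of_fix hF hm x hxN
  have hconj : ∀ y : F, U hF c d * T hF k * U hF 0 y * (U hF c d * T hF k)⁻¹ =
      U hF 0 ((k : F) * sig m (k : F) * y) := by
    intro y
    rw [show U hF c d * T hF k * U hF 0 y * (U hF c d * T hF k)⁻¹ =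
        U hF c d * (T hF k * U hF 0 y * (T hF k)⁻¹) * (U hF c d)⁻¹ by group,
      T_conj_U, U_inv, U_mul, U_mul, mul_zero, mul_zero, add_zero, add_zero]
    congr 1
    · exact add_self hF c
    · linear_combination (d + sig m c * c) * two_eq_zero hF
  rw [hconj] at he
  have he' := (U_inj hF he).2
  have hb0 : b ≠ 0 := fun h => hu1 (by rw [h, U_zero])
  set l := (k : F) * sig m (k : F) with hl
  have hlK : l ^ 2 ^ n = l := by
    have hlb : l = b' * b⁻¹ := by rw [← he', mul_assoc, mul_inv_cancel₀ hb0, mul_one]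
    rw [hlb, mul_pow, hb', inv_pow, hb]
  have hl0 : l ≠ 0 := mul_ne_zero k.ne_zero (sig_ne_zero k.ne_zero)
  rw [Subgroup.mem_normalizer_iff]
  intro g
  constructor
  · rintro ⟨y, hy, rfl⟩
    exact ⟨l * y, by rw [mul_pow, hlK, hy], hconj y⟩
  · rintro ⟨z, hz, hgz⟩
    refine ⟨l⁻¹ * z, by rw [mul_pow, inv_pow, hlK, hz], ?_⟩
    apply (MulAut.conj (U hF c d * T hF k)).injective
    rw [MulAut.conj_apply, MulAut.conj_apply, hgz, hconj]
    change _ = U hF 0 (l * (l⁻¹ * z))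
    rw [← mul_assoc, mul_inv_cancel₀ hl0, one_mul]

omit [Field F] [Fintype F] hF in
/-- The TI condition in element form. -/
theorem ti_iff {G : Type*} [Group G] (E : Subgroup G) :
    (∀ x : G, E ⊓ E.map (MulAut.conj x).toMonoidHom ≠ ⊥ → x ∈ Subgroup.normalizer (E : Set G)) ↔
      ∀ x u, u ∈ E → u ≠ 1 → x * u * x⁻¹ ∈ E → x ∈ Subgroup.normalizer (E : Set G) := by
  constructor
  · intro h x u hu hu1 hxu
    refine h x fun hbot => hu1 ?_
    have hmem : x * u * x⁻¹ ∈ E ⊓ E.map (MulAut.conj x).toMonoidHom := ⟨hxu, u, hu, rfl⟩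
    rw [hbot, Subgroup.mem_bot] at hmem
    exact conj_eq_one_iff.1 hmem
  · intro h x hne
    obtain ⟨⟨v, hvE, u, hu, huv⟩, hv1⟩ := Subgroup.ne_bot_iff_exists_ne_one.1 hne
    refine h x u hu (fun h1 => hv1 (Subtype.ext ?_)) ?_
    · change v = 1
      rw [← huv, h1, map_one]
    · change (MulAut.conj x).toMonoidHom u ∈ E
      rw [huv]
      exact hvE

end Cfsg.Agent.SzFacts
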