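import Cfsg.Agent.Lib.Suzuki.Tori

/-!
# Small facts on the Sylow 2-subgroups of the Suzuki group
-/

set_option autoImplicit false

namespace Cfsg.Agent.SzFacts

open Cfsg.Agent.Suzuki
open scoped Pointwise

variable {F : Type*} [Field F] [Fintype F] {m : ℕ}
variable (hF : Fintype.card F = 2 ^ (2 * m + 1))
include hF

/-- Every Sylow 2-subgroup is a conjugate of `USub`. -/
theorem sylow_eq_map (hm : 1 ≤ m) (P : Sylow 2 (Cfsg.Sz F m)) :
    ∃ h : Cfsg.Sz F m,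
      (P : Subgroup (Cfsg.Sz F m)) = (USub hF).map (MulAut.conj h).toMonoidHom := by
  haveI : Fact (Nat.Prime 2) := ⟨Nat.prime_two⟩
  let S := (isPGroup_USub hF).toSylow (index_USub_odd hF hm)
  obtain ⟨h, rfl⟩ := MulAction.exists_smul_eq (Cfsg.Sz F m) S P
  refine ⟨h, ?_⟩
  rw [Sylow.coe_subgroup_smul, IsPGroup.toSylow_coe, Subgroup.pointwise_smul_def]
  rfl

theorem mem_map_conj_USub {h g : Cfsg.Sz F m} :
    g ∈ (USub hF).map (MulAut.conj h).toMonoidHom ↔ ∃ a b, g = h * U hF a b * h⁻¹ := by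
  constructor
  · rintro ⟨_, ⟨a, b, rfl⟩, rfl⟩
    exact ⟨a, b, rfl⟩
  · rintro ⟨a, b, rfl⟩
    exact ⟨_, ⟨a, b, rfl⟩, rfl⟩

/-- A subgroup containing `USub` fixes `∞` or is everything. -/
theorem le_stabilizer_or_eq_top (hm : 1 ≤ m) (M : Subgroup (Cfsg.Sz F m))
    (hUM : USub hF ≤ M) :
    M ≤ MulAction.stabilizer (Cfsg.Sz F m) (Cfsg.suzukiPointInfinity F) ∨ M = ⊤ := by
  by_cases hst : M ≤ MulAction.stabilizer (Cfsg.Sz F m) (Cfsg.suzukiPointInfinity F)
  · exact Or.inl hst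
  right
  obtain ⟨g, hg, hne⟩ := SetLike.not_le_iff_exists.1 hst
  rw [MulAction.mem_stabilizer_iff] at hne
  obtain ⟨a, b, hab⟩ : ∃ a b, g • Cfsg.suzukiPointInfinity F = pt m a b := by
    rcases mem_ovoid.1 (smul_mem_ovoid g (inf_mem_ovoid (m := m))) with h | ⟨a, b, h⟩
    · exact absurd h hne
    · exact ⟨a, b, h⟩
  have hmove : ∀ x : Cfsg.Sz F m, ∃ y ∈ M,
      y • Cfsg.suzukiPointInfinity F = x • Cfsg.suzukiPointInfinity F := by
    intro x
    rcases mem_ovoid.1 (smul_mem_ovoid x (inf_mem_ovoid (m := m))) with h | ⟨c, d, h⟩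
    · exact ⟨1, one_mem _, by rw [one_smul, h]⟩
    · refine ⟨U hF c d * (U hF a b)⁻¹ * g,
        mul_mem (mul_mem (hUM ⟨c, d, rfl⟩) (inv_mem (hUM ⟨a, b, rfl⟩))) hg, ?_⟩
      rw [mul_smul, mul_smul, hab, h, ← U_smul_zero hF a b, inv_smul_smul, U_smul_zero]
  have hle : Subgroup.normalClosure (USub hF : Set (Cfsg.Sz F m)) ≤ M := by
    rw [Subgroup.normalClosure, Subgroup.closure_le]
    intro z hz
    obtain ⟨u, hu, hconj⟩ := Group.mem_conjugatesOfSet_iff.1 hz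
    obtain ⟨x, rfl⟩ := isConj_iff.1 hconj
    obtain ⟨y, hy, hyx⟩ := hmove x
    have hs : y⁻¹ * x ∈ Subgroup.normalizer (USub hF : Set (Cfsg.Sz F m)) := by
      rw [normalizer_USub hF hm, MulAction.mem_stabilizer_iff, mul_smul, inv_smul_eq_iff, hyx]
    have hu' := hUM ((Subgroup.mem_normalizer_iff.1 hs u).1 hu)
    have heq : x * u * x⁻¹ = y * (y⁻¹ * x * u * (y⁻¹ * x)⁻¹) * y⁻¹ := by group
    change x * u * x⁻¹ ∈ M
    rw [heq]
    exact mul_mem (mul_mem hy hu') (inv_mem hy)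
  haveI := isSimpleGroup hF hm
  rcases (Subgroup.normalClosure_normal (s := (USub hF : Set (Cfsg.Sz F m)))).eq_bot_or_eq_top
    with hb | ht
  · exfalso
    have hmem := Subgroup.subset_normalClosure (s := (USub hF : Set (Cfsg.Sz F m)))
      (show U hF (1 : F) 0 ∈ (USub hF : Set (Cfsg.Sz F m)) from ⟨1, 0, rfl⟩)
    rw [hb] at hmem
    exact one_ne_zero (α := F) (U_inj hF ((Subgroup.mem_bot.1 hmem).trans (U_zero hF).symm)).1
  · exact top_le_iff.1 (ht.ge.trans hle)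

theorem USub_le_stabilizer :
    USub hF ≤ MulAction.stabilizer (Cfsg.Sz F m) (Cfsg.suzukiPointInfinity F) := by
  rintro _ ⟨a, b, rfl⟩
  exact U_smul_inf hF a b

theorem stabilizer_ne_top :
    MulAction.stabilizer (Cfsg.Sz F m) (Cfsg.suzukiPointInfinity F) ≠ ⊤ := by
  intro h
  have : W hF ∈ MulAction.stabilizer (Cfsg.Sz F m) (Cfsg.suzukiPointInfinity F) := by
    rw [h]; exact Subgroup.mem_top _
  rw [MulAction.mem_stabilizer_iff, W_smul_inf] at this
  exact pt_ne_inf (m := m) (0 : F) 0 this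

theorem isCoatom_stabilizer (hm : 1 ≤ m) :
    IsCoatom (MulAction.stabilizer (Cfsg.Sz F m) (Cfsg.suzukiPointInfinity F)) :=
  ⟨stabilizer_ne_top hF, fun M hM =>
    (le_stabilizer_or_eq_top hF hm M ((USub_le_stabilizer hF).trans hM.le)).resolve_left
      fun h => absurd h hM.not_ge⟩

theorem eq_stabilizer_of_isCoatom (hm : 1 ≤ m) (M : Subgroup (Cfsg.Sz F m)) (hM : IsCoatom M)
    (hUM : USub hF ≤ M) :
    M = MulAction.stabilizer (Cfsg.Sz F m) (Cfsg.suzukiPointInfinity F) := by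
  have hle := (le_stabilizer_or_eq_top hF hm M hUM).resolve_right hM.1
  exact hle.eq_of_not_lt fun hlt => stabilizer_ne_top hF (hM.2 _ hlt)

end Cfsg.Agent.SzFacts
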